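import Groth.Prelude.Def_Wider
import Mathlib

/-!
# Sections of a quasi-coherent sheaf off a closed subset, up to power torsion
-/

set_option autoImplicit false

universe u

namespace Groth.Agent.LocCohSec

open CategoryTheory AlgebraicGeometry Opposite TopologicalSpace

variable {R : CommRingCat.{u}} (M : ModuleCat.{u} R)

/-- Sections of `M~` over `U`, as an `R`-module. -/
abbrev sec (U : (Spec R).Opens) : Type u :=
  ↑((modulesSpecToSheaf.obj (tilde M)).presheaf.obj (op U))

/-- Restriction of sections. -/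
noncomputable abbrev res {U V : (Spec R).Opens} (h : V ≤ U) : sec M U →ₗ[R] sec M V :=
  ((modulesSpecToSheaf.obj (tilde M)).presheaf.map (homOfLE h).op).hom

/-- The canonical map to the sections. -/
noncomputable abbrev toSec (U : (Spec R).Opens) : M →ₗ[R] sec M U := (tilde.toOpen M U).hom

theorem res_res {U V W : (Spec R).Opens} (h : V ≤ U) (h' : W ≤ V) (s : sec M U) :
    res M h' (res M h s) = res M (h'.trans h) s := by
  show ((modulesSpecToSheaf.obj (tilde M)).presheaf.map (homOfLE h).op ≫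
    (modulesSpecToSheaf.obj (tilde M)).presheaf.map (homOfLE h').op) s = _
  rw [← Functor.map_comp]
  rfl

theorem res_toSec {U V : (Spec R).Opens} (h : V ≤ U) (m : M) : res M h (toSec M U m) = toSec M V m := rfl

theorem eq_zero_of_locally {ι : Type u} (V : ι → (Spec R).Opens) (U : (Spec R).Opens) (hle : ∀ i, V i ≤ U)
    (hcov : U ≤ ⨆ i, V i) (s : sec M U) (h : ∀ i, res M (hle i) s = 0) : s = 0 :=
  TopCat.Sheaf.eq_of_locally_eq' (modulesSpecToSheaf.obj (tilde M)) V U (fun i => homOfLE (hle i)) hcov s 0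
    fun i => (h i).trans (map_zero (res M (hle i))).symm

theorem smul_pow_eq_zero_cancel {U : (Spec R).Opens} {f : R} (h : U ≤ PrimeSpectrum.basicOpen f) (n : ℕ)
    {s : sec M U} (hs : f ^ n • s = 0) : s = 0 := by
  have := (Scheme.Modules.isSMulRegular_of_le_basicOpen (M := tilde M) h).pow n
  exact this (hs.trans (smul_zero (f ^ n)).symm)

theorem exists_smul_eq_toSec (f : R) (s : sec M (PrimeSpectrum.basicOpen f)) :
    ∃ (m : M) (k : ℕ), f ^ k • s = toSec M (PrimeSpectrum.basicOpen f) m := by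
  obtain ⟨⟨m, ⟨_, k, rfl⟩⟩, hk⟩ := IsLocalizedModule.surj (.powers f) (toSec M (PrimeSpectrum.basicOpen f)) s
  exact ⟨m, k, hk⟩

/-- A section over `D(g)` which vanishes on `D(g) ∩ D(f)` is killed by a power of `f`. -/
theorem exists_pow_smul_eq_zero_basicOpen (f g : R) (s : sec M (PrimeSpectrum.basicOpen g))
    (hs : res M (show PrimeSpectrum.basicOpen (g * f) ≤ PrimeSpectrum.basicOpen g from
      PrimeSpectrum.basicOpen_mul_le_left g f) s = 0) :
    ∃ n : ℕ, f ^ n • s = 0 := by
  obtain ⟨⟨m, ⟨_, k, rfl⟩⟩, hk⟩ := IsLocalizedModule.surj (.powers g) (toSec M (PrimeSpectrum.basicOpen g)) s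
  have h1 : toSec M (PrimeSpectrum.basicOpen (g * f)) m = 0 := by
    rw [← res_toSec M (PrimeSpectrum.basicOpen_mul_le_left g f)]
    erw [← hk]
    show res M _ (g ^ k • s) = 0
    rw [map_smul, hs, smul_zero]
  obtain ⟨⟨_, n, rfl⟩, hn⟩ := (IsLocalizedModule.eq_zero_iff (.powers (g * f))
    (toSec M (PrimeSpectrum.basicOpen (g * f)))).1 h1
  refine ⟨n, smul_pow_eq_zero_cancel M (le_refl (PrimeSpectrum.basicOpen g)) (n + k) ?_⟩
  have h2 : (g * f) ^ n • (g ^ k • s) = 0 := by
    have h3 : toSec M (PrimeSpectrum.basicOpen g) ((g * f) ^ n • m) = 0 := by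
      rw [show ((g * f) ^ n • m : M) = 0 from hn, map_zero]
    rw [map_smul] at h3
    rw [show g ^ k • s = toSec M _ m from hk]
    exact h3
  rw [← h2, smul_smul, smul_smul]
  congr 1
  ring

theorem puncturedOpen_eq_iSup {A : Type u} [CommRing A] (I : Ideal A) (t : Finset A) (ht : Ideal.span (t : Set A) = I) :
    LocCoh.puncturedOpen A I = ⨆ g : t, (PrimeSpectrum.basicOpen g.1 : (Spec (CommRingCat.of A)).Opens) := by
  refine SetLike.coe_injective ?_
  ext x
  subst ht
  refine Iff.trans ?_ (Opens.mem_iSup.symm)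
  change ¬ ((Ideal.span (t : Set A) : Set A) ⊆ (PrimeSpectrum.asIdeal x : Set A)) ↔
    ∃ g : t, g.1 ∉ PrimeSpectrum.asIdeal x
  rw [SetLike.coe_subset_coe, Ideal.span_le, Set.not_subset]
  exact ⟨fun ⟨g, hg, h⟩ => ⟨⟨g, hg⟩, h⟩, fun ⟨g, h⟩ => ⟨g.1, g.2, h⟩⟩

theorem exists_finite_cover {A : Type u} [CommRing A] [IsNoetherianRing A] (U : (Spec (CommRingCat.of A)).Opens) :
    ∃ (t : Finset A), U = ⨆ g : t, (PrimeSpectrum.basicOpen g.1 : (Spec (CommRingCat.of A)).Opens) := by
  obtain ⟨I, hI⟩ := (PrimeSpectrum.isClosed_iff_zeroLocus_ideal (R := A) ((U : Set (Spec (CommRingCat.of A)))ᶜ)).1 U.2.isClosed_compl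
  obtain ⟨t, ht⟩ := IsNoetherian.noetherian I
  refine ⟨t, ?_⟩
  rw [← puncturedOpen_eq_iSup I t ht]
  refine SetLike.coe_injective ?_
  exact (compl_compl _).symm.trans (congrArg compl hI)

section Noetherian

variable {A : Type u} [CommRing A] [IsNoetherianRing A] (N : ModuleCat.{u} (CommRingCat.of A))

omit [IsNoetherianRing A] in
theorem res_smul {U V : (Spec (CommRingCat.of A)).Opens} (h : V ≤ U) (r : A) (s : sec N U) :
    res N h (r • s) = r • res N h s := map_smul _ _ _

/-- A section vanishing where `f` is invertible is killed by a power of `f`. -/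
theorem exists_pow_smul_eq_zero (f : A) (U : (Spec (CommRingCat.of A)).Opens) (s : sec N U)
    (hs : res N (inf_le_left : U ⊓ PrimeSpectrum.basicOpen f ≤ U) s = 0) : ∃ n : ℕ, f ^ n • s = 0 := by
  obtain ⟨t, ht⟩ := exists_finite_cover U
  have hle : ∀ g : t, (PrimeSpectrum.basicOpen g.1 : (Spec (CommRingCat.of A)).Opens) ≤ U := fun g => by
    rw [ht]; exact le_iSup (fun g : t => (PrimeSpectrum.basicOpen g.1 : (Spec (CommRingCat.of A)).Opens)) g
  have key : ∀ g : t, ∃ n : ℕ, f ^ n • res N (hle g) s = 0 := fun g => by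
    refine exists_pow_smul_eq_zero_basicOpen N f g.1 _ ?_
    have h2 : (PrimeSpectrum.basicOpen (g.1 * f) : (Spec (CommRingCat.of A)).Opens) ≤
        U ⊓ PrimeSpectrum.basicOpen f :=
      le_inf ((PrimeSpectrum.basicOpen_mul_le_left g.1 f).trans (hle g))
        (PrimeSpectrum.basicOpen_mul_le_right g.1 f)
    rw [res_res, ← res_res N inf_le_left h2, hs, map_zero]
  choose n hn using key
  refine ⟨∑ g, n g, eq_zero_of_locally N _ U hle ht.le _ fun g => ?_⟩
  rw [res_smul]
  obtain ⟨k, hk⟩ := Nat.exists_eq_add_of_le (Finset.single_le_sum (fun i _ => Nat.zero_le (n i))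
    (Finset.mem_univ g) : n g ≤ ∑ g, n g)
  rw [hk, add_comm, pow_add, mul_smul, hn, smul_zero]

variable (a : Ideal A)

omit [IsNoetherianRing A] in
theorem basicOpen_le_puncturedOpen {f : A} (hf : f ∈ a) :
    (PrimeSpectrum.basicOpen f : (Spec (CommRingCat.of A)).Opens) ≤ LocCoh.puncturedOpen A a :=
  fun _ hx hxa => hx (hxa hf)

/-- Sections killed by a power of `a` vanish off `V(a)`. -/
theorem res_eq_zero_of_smul {U : (Spec (CommRingCat.of A)).Opens} (V : (Spec (CommRingCat.of A)).Opens)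
    (hV : V ≤ U) (hVa : V ≤ LocCoh.puncturedOpen A a) (s : sec N U) (n : ℕ) (hs : ∀ r ∈ a ^ n, r • s = 0) :
    res N hV s = 0 := by
  obtain ⟨t, ht⟩ := IsNoetherian.noetherian a
  refine eq_zero_of_locally N (fun g : t => V ⊓ PrimeSpectrum.basicOpen g.1) V (fun g => inf_le_left) ?_ _ fun g => ?_
  · refine le_trans (le_inf le_rfl (hVa.trans (puncturedOpen_eq_iSup a t ht).le)) ?_
    exact (inf_iSup_eq V _).le
  · refine smul_pow_eq_zero_cancel N inf_le_right n ?_
    rw [res_res, ← res_smul, hs _ (Ideal.pow_mem_pow (ht ▸ Ideal.subset_span g.2) n), map_zero]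

theorem exists_pow_le_of_forall_mem {P : Ideal A} (h : ∀ f ∈ a, ∃ n : ℕ, f ^ n ∈ P) : ∃ n, a ^ n ≤ P :=
  Ideal.exists_pow_le_of_le_radical_of_fg (fun f hf => h f hf) (IsNoetherian.noetherian a)

theorem torsion_mem_iff {E : Type*} [AddCommGroup E] [Module A E] (x : E) :
    x ∈ (⨆ n : ℕ, LocCoh.torsionBy (a ^ n) E) ↔ ∃ n : ℕ, ∀ r ∈ a ^ n, r • x = 0 := by
  rw [Submodule.mem_iSup_of_directed _ (Monotone.directed_le fun m n hmn =>
    Submodule.torsionBySet_le_torsionBySet_of_subset (Ideal.pow_le_pow_right hmn))]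
  exact exists_congr fun n => ⟨fun h r hr => (Submodule.mem_torsionBySet_iff _ _).1 h ⟨r, hr⟩,
    fun h => (Submodule.mem_torsionBySet_iff _ _).2 fun r => h r r.2⟩

/-- The kernel of restriction to the punctured open. -/
theorem ker_res (U : (Spec (CommRingCat.of A)).Opens) (h : LocCoh.puncturedOpen A a ≤ U) :
    LinearMap.ker (res N h) = ⨆ n : ℕ, LocCoh.torsionBy (a ^ n) (sec N U) := by
  ext s
  rw [LinearMap.mem_ker, torsion_mem_iff]
  refine ⟨fun hs => ?_, fun ⟨n, hn⟩ => res_eq_zero_of_smul N a _ h le_rfl s n hn⟩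
  obtain ⟨n, hn⟩ := exists_pow_le_of_forall_mem a (P := (Submodule.span A {s}).annihilator) fun f hf => by
    obtain ⟨n, hn⟩ := exists_pow_smul_eq_zero N f U s (by
      rw [← res_res N h ((inf_le_right).trans (basicOpen_le_puncturedOpen a hf)), hs, map_zero])
    exact ⟨n, Submodule.mem_annihilator_span_singleton _ _ |>.2 hn⟩
  exact ⟨n, fun r hr => (Submodule.mem_annihilator_span_singleton _ _).1 (hn hr)⟩

/-- Sections over the punctured open are, up to power torsion, global. -/
theorem exists_pow_smul_mem_range (s : sec N (LocCoh.puncturedOpen A a)) :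
    ∃ n : ℕ, ∀ r ∈ a ^ n, r • s ∈ LinearMap.range (toSec N (LocCoh.puncturedOpen A a)) := by
  obtain ⟨n, hn⟩ := exists_pow_le_of_forall_mem a
    (P := (LinearMap.range (toSec N (LocCoh.puncturedOpen A a))).comap (LinearMap.toSpanSingleton A _ s))
    fun f hf => by
      obtain ⟨m, k, hk⟩ := exists_smul_eq_toSec N f (res N (basicOpen_le_puncturedOpen a hf) s)
      obtain ⟨l, hl⟩ := exists_pow_smul_eq_zero N f (LocCoh.puncturedOpen A a)
        (f ^ k • s - toSec N _ m) (by
          rw [← res_res N (basicOpen_le_puncturedOpen a hf) (inf_le_right), map_sub, res_smul, res_toSec]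
          erw [hk]
          rw [sub_self, map_zero])
      refine ⟨l + k, f ^ l • m, ?_⟩
      rw [LinearMap.toSpanSingleton_apply, map_smul, pow_add, mul_smul]
      rw [smul_sub, sub_eq_zero] at hl
      exact hl.symm
  exact ⟨n, fun r hr => hn hr⟩

theorem res_self {U : (Spec (CommRingCat.of A)).Opens} (s : sec N U) : res N (le_refl U) s = s := by
  show ((modulesSpecToSheaf.obj (tilde N)).presheaf.map (homOfLE (le_refl U)).op) s = s
  rw [show (homOfLE (le_refl U)).op = 𝟙 (op U) from rfl, CategoryTheory.Functor.map_id]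
  rfl

theorem toSec_top_injective : Function.Injective (toSec N ⊤) := by
  haveI := tilde.isIso_toOpen_top (M := N)
  exact (ConcreteCategory.bijective_of_isIso (tilde.toOpen N ⊤)).1

theorem mem_ker_toSec (m : N) :
    m ∈ LinearMap.ker (toSec N (LocCoh.puncturedOpen A a)) ↔ ∃ n : ℕ, ∀ r ∈ a ^ n, r • m = 0 := by
  rw [LinearMap.mem_ker, ← res_toSec N (le_top : LocCoh.puncturedOpen A a ≤ ⊤) m, ← LinearMap.mem_ker,
    ker_res N a, torsion_mem_iff]
  refine exists_congr fun n => forall₂_congr fun r _ => ?_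
  rw [← map_smul]
  exact map_eq_zero_iff _ (toSec_top_injective N)

theorem torsion_sec_eq_bot :
    (⨆ n : ℕ, LocCoh.torsionBy (a ^ n) (sec N (LocCoh.puncturedOpen A a))) = ⊥ := by
  rw [eq_bot_iff]
  intro s hs
  obtain ⟨n, hn⟩ := (torsion_mem_iff a s).1 hs
  rw [Submodule.mem_bot, ← res_self N s]
  exact res_eq_zero_of_smul N a _ (le_refl _) le_rfl s n hn

theorem isPowerTorsion_coker :
    LocCoh.IsPowerTorsion a (sec N (LocCoh.puncturedOpen A a) ⧸
      LinearMap.range (toSec N (LocCoh.puncturedOpen A a))) := fun x => by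
  obtain ⟨s, rfl⟩ := Submodule.Quotient.mk_surjective _ x
  obtain ⟨n, hn⟩ := exists_pow_smul_mem_range N a s
  exact ⟨n, fun r hr => by rw [← Submodule.Quotient.mk_smul, Submodule.Quotient.mk_eq_zero]; exact hn r hr⟩

end Noetherian

end Groth.Agent.LocCohSec
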